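import Mathlib
import Cfsg.Prelude.Def_OddOrder

/-!
Solvability of groups of odd order from the nonexistence of minimal simple groups of odd order, and
some immediate consequences.
-/

set_option autoImplicit false
set_option linter.style.haveILetI false

namespace Cfsg.Agent.OddOrderGlue

open Cfsg

universe u

/-- Every finite group of odd order is solvable. -/
def FeitThompson : Prop := ∀ (G : Type u) [Group G] [Finite G], Odd (Nat.card G) → Group.IsSolvable G

/-- There is no minimal simple group of odd order. -/
def NoMinSimpleOdd : Prop := ∀ (G : Type u) [Group G] [Finite G], IsMinSimpleOddOrder G → False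

theorem isSolvable_aux (h : NoMinSimpleOdd.{u}) :
    ∀ (n : ℕ) (G : Type u) [Group G] [Finite G], Nat.card G = n → Odd (Nat.card G) →
      Group.IsSolvable G := by
  intro n
  induction n using Nat.strong_induction_on with
  | _ n ih =>
    intro G _ _ hn hodd
    have hsub : ∀ H : Subgroup G, H ≠ ⊤ → Group.IsSolvable H := fun H hH =>
      ih _ (hn ▸ lt_of_le_of_ne (Nat.le_of_dvd Nat.card_pos (Subgroup.card_subgroup_dvd_card H))
        fun he => hH (Subgroup.eq_top_of_card_eq H he)) H rfl
        (hodd.of_dvd_nat (Subgroup.card_subgroup_dvd_card H))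
    by_cases hcomm : IsMulCommutative G
    · exact Group.isSolvable_of_comm fun a b => hcomm.is_comm.comm a b
    by_cases hsimple : IsSimpleGroup G
    · exact (h G ⟨hodd, hsimple, hcomm, hsub⟩).elim
    · haveI : Nontrivial G := by
        by_contra hnt
        rw [not_nontrivial_iff_subsingleton] at hnt
        exact hcomm ⟨⟨fun a b => Subsingleton.elim _ _⟩⟩
      obtain ⟨N, hN, hN1, hN2⟩ : ∃ N : Subgroup G, N.Normal ∧ N ≠ ⊥ ∧ N ≠ ⊤ := by
        by_contra hall
        push Not at hall
        exact hsimple { eq_bot_or_eq_top_of_normal := fun N hN =>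
          or_iff_not_imp_left.2 (hall N hN) }
      haveI := hN
      haveI := hsub N hN2
      haveI : Group.IsSolvable (G ⧸ N) := ih _ (by
          rw [← hn, Subgroup.card_eq_card_quotient_mul_card_subgroup N]
          exact lt_mul_right Nat.card_pos ((Subgroup.one_lt_card_iff_ne_bot N).2 hN1))
        (G ⧸ N) rfl (hodd.of_dvd_nat (Subgroup.card_quotient_dvd_card N))
      exact Group.isSolvable_of_ker_le_range N.subtype (QuotientGroup.mk' N)
        (by rw [QuotientGroup.ker_mk', Subgroup.range_subtype])

theorem feitThompson_of_noMinSimple (h : NoMinSimpleOdd.{u}) : FeitThompson.{u} :=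
  fun G _ _ hodd => isSolvable_aux h _ G rfl hodd

theorem noMinSimple_of_feitThompson (h : FeitThompson.{u}) : NoMinSimpleOdd.{u} := by
  intro G _ _ hG
  obtain ⟨hodd, hs, hnc, -⟩ := hG
  haveI := h G hodd
  haveI := hs
  exact hnc ⟨⟨fun a b => IsSimpleGroup.comm_iff_isSolvable.2 inferInstance a b⟩⟩

/-- A non-abelian finite simple group has even order. -/
theorem two_dvd_card (h : FeitThompson.{u}) (G : Type u) [Group G] [Finite G] [IsSimpleGroup G]
    (hnc : ¬ ∀ a b : G, a * b = b * a) : 2 ∣ Nat.card G := by
  by_contra hd
  haveI := h G (Nat.odd_iff.2 (by omega))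
  exact hnc fun a b => IsSimpleGroup.comm_iff_isSolvable.2 inferInstance a b

/-- An extension of a solvable group by a group of odd order is solvable. -/
theorem isSolvable_of_odd_quotient (h : FeitThompson.{u}) {G : Type u} [Group G] [Finite G]
    (N : Subgroup G) [N.Normal] [Group.IsSolvable N] (hodd : Odd N.index) : Group.IsSolvable G := by
  haveI : Group.IsSolvable (G ⧸ N) := h _ (by rwa [← Subgroup.index_eq_card])
  exact Group.isSolvable_of_ker_le_range N.subtype (QuotientGroup.mk' N)
    (by rw [QuotientGroup.ker_mk', Subgroup.range_subtype])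

end Cfsg.Agent.OddOrderGlue
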